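import Groth.Agent.Lib.PushClosed.Basic
import Groth.Agent.Lib.DerivedOX.PullbackStalk

/-!
# The unit `M ⟶ i_* i^* M` of a closed immersion is epi; sections of a right adjoint of `i_*`
-/

set_option autoImplicit false

universe u

open CategoryTheory Limits AlgebraicGeometry Opposite TopologicalSpace
open Groth.Agent.Lib.Modules Groth.Agent.Lib.Modules.StalkModule
open Groth.Agent.Lib.DerivedOX Groth.Agent.Lib.DerivedOX.PullbackStalk
open Groth.Agent.Lib.DerivedOX.FlatGen Groth.Agent.Lib.DerivedOX.GenStalk
open scoped TensorProduct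

namespace Groth.Agent.Lib.PushClosed.Unit

variable {Z X : Scheme.{u}} (i : Z ⟶ X)

set_option quotPrecheck false in
local notation "η" => Adjunction.unit (Scheme.Modules.pullbackPushforwardAdjunction i)

theorem bijective_pushStalkMap [IsPreimmersion i] (N : Z.Modules) (z : Z) :
    Function.Bijective (pushStalkMap i z N) := by
  have := Basic.isIso_stalkPushNat_app i z N
  exact ConcreteCategory.bijective_of_isIso ((Basic.stalkPushNat i z).app N)

theorem subsingleton_stalk_push [IsClosedImmersion i] (N : Z.Modules) {x : X} (hx : x ∉ Set.range i) :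
    Subsingleton (((Scheme.Modules.pushforward i).obj N).presheaf.stalk x) :=
  AddCommGrpCat.subsingleton_of_isZero (Basic.isZero_stalk_push i N hx)

theorem epi_unit [IsClosedImmersion i] (M : X.Modules) : Epi ((η).app M) := by
  rw [epi_iff_stalkMapₗ_surjective]
  intro x
  by_cases hx : x ∈ Set.range i
  · obtain ⟨z, rfl⟩ := hx
    intro b
    let φ := (i.stalkMap z).hom
    letI : Algebra (X.presheaf.stalk (i.base z)) (Z.presheaf.stalk z) := φ.toAlgebra
    suffices key : ∀ t : Z.presheaf.stalk z ⊗[X.presheaf.stalk (i.base z)] M.presheaf.stalk (i.base z),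
        ∃ a, pushStalkMap i z _ (stalkMapₗ ((η).app M) (i.base z) a) = (comparison i z).app M t by
      haveI := isIso_comparison i z
      obtain ⟨t, ht⟩ := (ConcreteCategory.bijective_of_isIso ((comparison i z).app M)).2
        (pushStalkMap i z _ b)
      obtain ⟨a, ha⟩ := key t
      exact ⟨a, (bijective_pushStalkMap i _ z).1 (ha.trans ht)⟩
    intro t
    induction t using TensorProduct.induction_on with
    | zero => exact ⟨0, by rw [map_zero, map_zero]; exact (map_zero ((comparison i z).app M).hom).symm⟩
    | tmul c a =>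
      obtain ⟨c', rfl⟩ := i.stalkMap_surjective z c
      refine ⟨c' • a, (comparison_one_tmul i z M (c' • a)).symm.trans (congrArg _ ?_)⟩
      have e : (1 : Z.presheaf.stalk z) ⊗ₜ[X.presheaf.stalk (i.base z)] (c' • a) =
          φ c' ⊗ₜ[X.presheaf.stalk (i.base z)] a := by
        rw [← TensorProduct.smul_tmul, Algebra.smul_def, mul_one]
        rfl
      exact e
    | add s t hs ht =>
      obtain ⟨a, ha⟩ := hs
      obtain ⟨b, hb⟩ := ht
      exact ⟨a + b, by rw [map_add, map_add, ha, hb]; exact (map_add ((comparison i z).app M).hom s t).symm⟩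
  · have h := subsingleton_stalk_push i ((Scheme.Modules.pullback i).obj M) hx
    exact fun b => ⟨0, @Subsingleton.elim _ h _ b⟩

/-- The stalk of the kernel of the unit at a generator. -/
theorem stalkMap_eq_zero_of_unit_gen [IsClosedImmersion i] (U : X.Opens) (z : Z) (hx : i.base z ∈ U)
    (c : X.presheaf.stalk (i.base z))
    (h : stalkMapₗ ((η).app (gen U)) (i.base z) (c • genGerm hx) = 0) : (i.stalkMap z).hom c = 0 := by
  have hx' : z ∈ i ⁻¹ᵁ U := hx
  have h1 : pushStalkMap i z _ (stalkMapₗ ((η).app (gen U)) (i.base z) (genGerm hx)) =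
      stalkMapₗ (genToPb i U) z (genGerm hx') := by
    refine (congrArg (pushStalkMap i z _) (stalkMapₗ_genGerm _ hx)).trans ?_
    refine (pushStalkMap_germ i z _ hx _).trans ?_
    refine Eq.trans ?_ (stalkMapₗ_genGerm (genToPb i U) hx').symm
    refine congrArg _ ?_
    refine Eq.trans ?_ ((genHomEquiv (i ⁻¹ᵁ U) _).apply_symm_apply _).symm
    refine congrArg (genHomEquiv U _) ?_
    exact ((Scheme.Modules.pullbackPushforwardAdjunction i).homEquiv_id _).symm
  have h2 : stalkMapₗ (genToPb i U) z ((i.stalkMap z).hom c • genGerm hx') = 0 := by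
    rw [map_smul, ← h1, ← pushStalkMap_smul, ← map_smul, h, map_zero]
  have h3 := (stalkLinearEquiv (asIso (genToPb i U)) z).injective
    (h2.trans (map_zero (stalkLinearEquiv (asIso (genToPb i U)) z)).symm)
  exact (bijective_smul_genGerm hx').1 (h3.trans (zero_smul _ _).symm)

theorem counit_mono [IsClosedImmersion i] {H : X.Modules ⥤ Z.Modules}
    (adj : Scheme.Modules.pushforward i ⊣ H) (F : X.Modules) : Mono (adj.counit.app F) := by
  refine Preadditive.mono_of_cancel_zero _ fun {K} g hg => ?_
  let g' := ((Scheme.Modules.pullbackPushforwardAdjunction i).homEquiv _ _).symm g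
  have hfac : (η).app K ≫ (Scheme.Modules.pushforward i).map g' = g :=
    ((Scheme.Modules.pullbackPushforwardAdjunction i).homEquiv_unit ..).symm.trans
      (((Scheme.Modules.pullbackPushforwardAdjunction i).homEquiv _ _).apply_symm_apply g)
  haveI := epi_unit i K
  have h0 : (Scheme.Modules.pushforward i).map g' ≫ adj.counit.app F = 0 := by
    rw [← cancel_epi ((η).app K), ← Category.assoc, hfac, comp_zero]
    exact hg
  have h1 : g' = 0 := by
    apply (adj.homEquiv _ _).symm.injective
    rw [adj.homEquiv_counit, adj.homEquiv_counit, h0, Functor.map_zero, zero_comp]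
  rw [← hfac, h1, Functor.map_zero, comp_zero]

end Groth.Agent.Lib.PushClosed.Unit
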