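import Groth.Agent.Lib.PushClosed.Unit

/-!
# Sections of a right adjoint of `i_*` are the sections killed by the ideal
-/

set_option autoImplicit false

universe u

open CategoryTheory Limits AlgebraicGeometry Opposite TopologicalSpace
open Groth.Agent.Lib.Modules Groth.Agent.Lib.Modules.StalkModule
open Groth.Agent.Lib.DerivedOX Groth.Agent.Lib.DerivedOX.PullbackStalk
open Groth.Agent.Lib.DerivedOX.FlatGen Groth.Agent.Lib.DerivedOX.GenStalk

namespace Groth.Agent.Lib.PushClosed.Torsion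

variable {Z X : Scheme.{u}} (i : Z ⟶ X) [IsClosedImmersion i]

/-- Elements of the kernel of the stalk map kill germs of sections killed by the ideal. -/
theorem smul_germ_eq_zero_of_stalkMap {M : X.Modules} (U : X.affineOpens) (s : Γ(M, U.1))
    (hs : ∀ r ∈ i.ker.ideal U, r • s = 0) (z : Z) (hx : i.base z ∈ U.1)
    (c : X.presheaf.stalk (i.base z)) (hc : (i.stalkMap z).hom c = 0) :
    c • M.presheaf.germ U.1 (i.base z) hx s = 0 := by
  letI := TopCat.Presheaf.algebra_section_stalk X.presheaf ⟨i.base z, hx⟩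
  haveI := U.2.isLocalization_stalk ⟨i.base z, hx⟩
  obtain ⟨⟨r, m⟩, hm⟩ := IsLocalization.surj (U.2.primeIdealOf ⟨i.base z, hx⟩).asIdeal.primeCompl c
  have hu : IsUnit (X.presheaf.germ U.1 (i.base z) hx m.1) :=
    IsLocalization.map_units (X.presheaf.stalk (i.base z)) m
  have hx' : z ∈ i ⁻¹ᵁ U.1 := hx
  have hr : Z.presheaf.germ (i ⁻¹ᵁ U.1) z hx' (i.app U.1 r) = 0 := by
    rw [← Scheme.Hom.germ_stalkMap_apply i U.1 z hx r]
    have : X.presheaf.germ U.1 (i.base z) hx r = c * X.presheaf.germ U.1 (i.base z) hx m.1 := hm.symm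
    rw [this]
    exact (map_mul _ _ _).trans (by rw [hc, zero_mul])
  have hA : IsAffineOpen (i ⁻¹ᵁ U.1) := U.2.preimage i
  letI := TopCat.Presheaf.algebra_section_stalk Z.presheaf ⟨z, hx'⟩
  haveI := hA.isLocalization_stalk ⟨z, hx'⟩
  obtain ⟨⟨g', hg'⟩, hg0⟩ := (IsLocalization.map_eq_zero_iff
    (hA.primeIdealOf ⟨z, hx'⟩).asIdeal.primeCompl (Z.presheaf.stalk z) (i.app U.1 r)).1 hr
  obtain ⟨g, rfl⟩ := Scheme.Hom.app_surjective i U.1 U.2 g'
  have hgu' : IsUnit (Z.presheaf.germ (i ⁻¹ᵁ U.1) z hx' (i.app U.1 g)) :=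
    IsLocalization.map_units (Z.presheaf.stalk z) (⟨_, hg'⟩ : (hA.primeIdealOf ⟨z, hx'⟩).asIdeal.primeCompl)
  have hgu : IsUnit (X.presheaf.germ U.1 (i.base z) hx g) := by
    rw [← Scheme.Hom.germ_stalkMap_apply i U.1 z hx g] at hgu'
    exact (isUnit_map_iff (i.stalkMap z).hom _).1 hgu'
  have hI : g * r ∈ i.ker.ideal U := by
    rw [Scheme.Hom.ker_apply, RingHom.mem_ker, map_mul]
    exact hg0
  have hc' : c * X.presheaf.germ U.1 (i.base z) hx m.1 = X.presheaf.germ U.1 (i.base z) hx r := hm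
  have h0 : (X.presheaf.germ U.1 (i.base z) hx g * X.presheaf.germ U.1 (i.base z) hx m.1) •
      (c • M.presheaf.germ U.1 (i.base z) hx s) = 0 := by
    rw [smul_smul, mul_assoc, mul_comm _ c, hc', ← map_mul, ← germ_smul, hs _ hI, map_zero]
  exact (hgu.mul hu).smul_eq_zero.1 h0

/-- Germs of sections killed by the ideal vanish outside the image. -/
theorem germ_eq_zero_of_notMem {M : X.Modules} (U : X.affineOpens) (s : Γ(M, U.1))
    (hs : ∀ r ∈ i.ker.ideal U, r • s = 0) {x : X} (hx : x ∈ U.1) (hxZ : x ∉ Set.range i) :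
    M.presheaf.germ U.1 x hx s = 0 := by
  have hns : x ∉ i.ker.support := by
    rw [← SetLike.mem_coe, Scheme.Hom.support_ker, i.isClosedEmbedding.isClosed_range.closure_eq]
    exact hxZ
  rw [Scheme.IdealSheafData.mem_support_iff_of_mem hx, Scheme.mem_zeroLocus_iff] at hns
  push Not at hns
  obtain ⟨r, hr, hrx⟩ := hns
  have hu : IsUnit (X.presheaf.germ U.1 x hx r) := (Scheme.mem_basicOpen _ _ _ hx).1 hrx
  rw [← hu.smul_eq_zero, ← germ_smul, hs r hr, map_zero]

theorem injective_app_of_mono {M N : X.Modules} (φ : M ⟶ N) [Mono φ] (U : X.Opens) :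
    Function.Injective (φ.app U) :=
  (Stalk.mono_iff_app_injective φ).1 inferInstance U

theorem range_counit {H : X.Modules ⥤ Z.Modules} (adj : Scheme.Modules.pushforward i ⊣ H)
    (F : X.Modules) (U : X.affineOpens) (s : Γ(F, U.1)) :
    (∃ t : Γ((Scheme.Modules.pushforward i).obj (H.obj F), U.1), (adj.counit.app F).app U.1 t = s) ↔
      ∀ r ∈ i.ker.ideal U, r • s = 0 := by
  constructor
  · rintro ⟨t, rfl⟩ r hr
    refine (Scheme.Modules.Hom.app_smul _ r t).symm.trans ?_
    have : r • t = 0 := by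
      change (i.app U.1).hom r • (show Γ(H.obj F, i ⁻¹ᵁ U.1) from t) = 0
      rw [Scheme.Hom.ker_apply, RingHom.mem_ker] at hr
      rw [hr, zero_smul]
    rw [this, map_zero]
  · intro hs
    let φ : gen U.1 ⟶ F := (genHomEquiv U.1 F).symm s
    have hφ : genHomEquiv U.1 F φ = s := Equiv.apply_symm_apply _ _
    let η := (Scheme.Modules.pullbackPushforwardAdjunction i).unit.app (gen U.1)
    haveI : Epi η := Unit.epi_unit i _
    have hk : kernel.ι η ≫ φ = 0 := by
      refine hom_ext_stalkMapₗ fun x => LinearMap.ext fun a => ?_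
      rw [stalkMapₗ_comp, stalkMapₗ_zero, LinearMap.zero_apply]
      change stalkMapₗ φ x (stalkMapₗ (kernel.ι η) x a) = 0
      have ha : stalkMapₗ η x (stalkMapₗ (kernel.ι η) x a) = 0 := by
        rw [← LinearMap.comp_apply, ← stalkMapₗ_comp, kernel.condition, stalkMapₗ_zero,
          LinearMap.zero_apply]
      generalize stalkMapₗ (kernel.ι η) x a = b at ha ⊢
      by_cases hxU : x ∈ U.1
      · obtain ⟨c, rfl⟩ := (bijective_smul_genGerm hxU).2 b
        rw [map_smul, stalkMapₗ_genGerm φ hxU, hφ]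
        by_cases hxZ : x ∈ Set.range i
        · obtain ⟨z, rfl⟩ := hxZ
          exact smul_germ_eq_zero_of_stalkMap i U s hs z hxU c
            (Unit.stalkMap_eq_zero_of_unit_gen i U.1 z hxU c ha)
        · rw [germ_eq_zero_of_notMem i U s hs hxU hxZ, smul_zero]
      · have h := subsingleton_stalk_gen hxU
        rw [@Subsingleton.elim _ h b 0]
        exact map_zero _
    obtain ⟨ψ, hψ⟩ : ∃ ψ : (Scheme.Modules.pushforward i).obj ((Scheme.Modules.pullback i).obj (gen U.1)) ⟶ F,
        η ≫ ψ = φ :=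
      ⟨_, (Abelian.epiIsCokernelOfKernel _ (kernelIsKernel η)).fac (CokernelCofork.ofπ φ hk) WalkingParallelPair.one⟩
    refine ⟨genHomEquiv U.1 _ (η ≫ (Scheme.Modules.pushforward i).map (adj.homEquiv _ _ ψ)), ?_⟩
    refine (genHomEquiv_comp _ _ _).symm.trans ?_
    refine Eq.trans (congrArg (genHomEquiv U.1 F) ?_) hφ
    refine (Category.assoc _ _ _).trans (Eq.trans (congrArg (η ≫ ·) ?_) hψ)
    exact (adj.homEquiv_counit ..).symm.trans ((adj.homEquiv _ _).symm_apply_apply ψ)

end Groth.Agent.Lib.PushClosed.Torsion
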