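import Groth.Agent.Lib.Modules.Stalk
import Groth.Agent.Lib.ModTensor.Adjoint
import Mathlib.AlgebraicGeometry.Morphisms.ClosedImmersion

/-!
# Direct image along a closed immersion

`i_*` on O-modules computes stalkwise; hence it preserves all colimits and has a right adjoint.
-/

set_option autoImplicit false

universe u

open CategoryTheory Limits AlgebraicGeometry Opposite TopologicalSpace
open Groth.Agent.Lib.Modules.Stalk

namespace Groth.Agent.Lib.PushClosed.Basic

theorem stalkPushforward_naturality {A B : TopCat.{u}} (f : A ⟶ B)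
    {F G : A.Presheaf AddCommGrpCat.{u}} (g : F ⟶ G) (x : A) :
    (TopCat.Presheaf.stalkFunctor AddCommGrpCat.{u} (f x)).map
        ((TopCat.Presheaf.pushforward AddCommGrpCat.{u} f).map g) ≫
      TopCat.Presheaf.stalkPushforward _ f G x =
    TopCat.Presheaf.stalkPushforward _ f F x ≫ (TopCat.Presheaf.stalkFunctor _ x).map g := by
  refine TopCat.Presheaf.stalk_hom_ext _ fun U hU => ?_
  erw [TopCat.Presheaf.stalkFunctor_map_germ_assoc, TopCat.Presheaf.stalkPushforward_germ,
    TopCat.Presheaf.stalkPushforward_germ_assoc, TopCat.Presheaf.stalkFunctor_map_germ]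
  rfl

variable {Z X : Scheme.{u}} (i : Z ⟶ X)

/-- The stalk of `i_* M` at `i z` maps to the stalk of `M` at `z`. -/
noncomputable def stalkPushNat (z : Z) :
    Scheme.Modules.pushforward i ⋙ stalkFunctor X (i z) ⟶ stalkFunctor Z z where
  app M := TopCat.Presheaf.stalkPushforward AddCommGrpCat.{u} i.base M.presheaf z
  naturality {M N} φ := stalkPushforward_naturality i.base φ.mapPresheaf z

instance isIso_stalkPushNat_app [IsPreimmersion i] (z : Z) (M : Z.Modules) :
    IsIso ((stalkPushNat i z).app M) :=
  TopCat.Presheaf.stalkPushforward.stalkPushforward_iso_of_isInducing _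
    i.isEmbedding.isInducing M.presheaf z

instance isIso_stalkPushNat [IsPreimmersion i] (z : Z) : IsIso (stalkPushNat i z) :=
  NatIso.isIso_of_isIso_app _

theorem subsingleton_sections_bot (M : Z.Modules) : Subsingleton Γ(M, ⊥) :=
  ⟨fun s t => TopCat.Presheaf.section_ext ((toAbSheaf Z).obj M) ⊥ s t fun _ hx => absurd hx (by simp)⟩

theorem isZero_stalk_push [IsClosedImmersion i] (M : Z.Modules) {x : X} (hx : x ∉ Set.range i) :
    IsZero (((Scheme.Modules.pushforward i).obj M).presheaf.stalk x) := by
  have : Subsingleton (((Scheme.Modules.pushforward i).obj M).presheaf.stalk x) := by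
    refine ⟨fun a b => ?_⟩
    suffices ∀ c : ((Scheme.Modules.pushforward i).obj M).presheaf.stalk x, c = 0 by rw [this a, this b]
    intro c
    obtain ⟨U, hxU, s, rfl⟩ := TopCat.Presheaf.exists_germ_eq _ c
    let V : X.Opens := U ⊓ ⟨(Set.range i)ᶜ, i.isClosedEmbedding.isClosed_range.isOpen_compl⟩
    have hV : i ⁻¹ᵁ V = ⊥ := by
      ext z
      simp [V]
    have := subsingleton_sections_bot M
    have h0 : ((Scheme.Modules.pushforward i).obj M).presheaf.map (homOfLE inf_le_left).op s
        = (0 : Γ((Scheme.Modules.pushforward i).obj M, V)) := by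
      have : Subsingleton Γ(M, i ⁻¹ᵁ V) := hV ▸ this
      exact @Subsingleton.elim _ this _ _
    rw [← TopCat.Presheaf.germ_res_apply _ (homOfLE inf_le_left : V ⟶ U) x ⟨hxU, hx⟩, h0, map_zero]
  exact AddCommGrpCat.isZero_of_subsingleton _

instance preservesColimitsOfShape_comp_stalk [IsClosedImmersion i] (x : X) (K : Type u) [SmallCategory K] :
    PreservesColimitsOfShape K (Scheme.Modules.pushforward i ⋙ stalkFunctor X x) := by
  by_cases hx : x ∈ Set.range i
  · obtain ⟨z, rfl⟩ := hx
    exact preservesColimitsOfShape_of_natIso (asIso (stalkPushNat i z)).symm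
  · exact ⟨fun {F} => ⟨fun {c} _ => ⟨IsColimit.ofIsZero _
      (Functor.isZero _ fun j => isZero_stalk_push i (F.obj j) hx) (isZero_stalk_push i c.pt hx)⟩⟩⟩

theorem isIso_post [IsClosedImmersion i] {K : Type u} [SmallCategory K] (F : K ⥤ Z.Modules) :
    IsIso (colimit.post F (Scheme.Modules.pushforward i)) := by
  refine (isIso_iff_stalk _).2 fun x => ?_
  have h := colimit.post_post F (Scheme.Modules.pushforward i) (stalkFunctor X x)
  have : IsIso (colimit.post (F ⋙ Scheme.Modules.pushforward i) (stalkFunctor X x) ≫
      (stalkFunctor X x).map (colimit.post F (Scheme.Modules.pushforward i))) := by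
    rw [h]
    infer_instance
  exact IsIso.of_isIso_comp_left (colimit.post (F ⋙ Scheme.Modules.pushforward i) (stalkFunctor X x)) _

instance pushforward_preservesColimits [IsClosedImmersion i] :
    PreservesColimitsOfSize.{u, u} (Scheme.Modules.pushforward i) where
  preservesColimitsOfShape {K} _ := ⟨fun {F} => by
    have := isIso_post i F
    exact preservesColimit_of_isIso_post _ _⟩

theorem pushforward_isLeftAdjoint [IsClosedImmersion i] :
    (Scheme.Modules.pushforward i).IsLeftAdjoint :=
  haveI h := pushforward_preservesColimits i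
  @Groth.Agent.Lib.ModTensor.Adjoint.isLeftAdjoint_of_preservesColimits _ _ _ Z.sheaf X.Modules _
    (Scheme.Modules.pushforward i) h

end Groth.Agent.Lib.PushClosed.Basic
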